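/-
Kernel checks of the certificate.
-/
import Cfsg.Agent.Lib.Chev.InvolCert.E6.Tbl
import Cfsg.Agent.Lib.Chev.AllC

set_option autoImplicit false
set_option Elab.async false

namespace Cfsg.Agent.Chev.InvolCert.E6

open Cfsg.Agent.Chev.InvolCert

theorem ok4 : ((List.range' 256 64).all fun i => ckNode Cfsg.Agent.Chev.E6.pk (cert.map Prod.fst) tbl i) = true := by
  decide +kernel

theorem ok5 : ((List.range' 320 64).all fun i => ckNode Cfsg.Agent.Chev.E6.pk (cert.map Prod.fst) tbl i) = true := by
  decide +kernel

theorem ok6 : ((List.range' 384 64).all fun i => ckNode Cfsg.Agent.Chev.E6.pk (cert.map Prod.fst) tbl i) = true := by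
  decide +kernel

theorem ok7 : ((List.range' 448 64).all fun i => ckNode Cfsg.Agent.Chev.E6.pk (cert.map Prod.fst) tbl i) = true := by
  decide +kernel

end Cfsg.Agent.Chev.InvolCert.E6
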