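/-
The involutions of the group of type E6 in characteristic two.
-/
import Cfsg.Agent.Lib.Chev.InvolCert.E6.Ck0
import Cfsg.Agent.Lib.Chev.InvolCert.E6.Ck1
import Cfsg.Agent.Lib.Chev.InvolCert.E6.Ck2
import Cfsg.Agent.Lib.Chev.InvolCert.E6.Sep
import Cfsg.Agent.Lib.Chev.InvolCert.Final

set_option autoImplicit false

namespace Cfsg.Agent.Chev.InvolCert.E6

open Cfsg.Lie Cfsg.Agent.Chev Cfsg.Agent.Chev.InvolCert

theorem ok_all : ∀ i < 698, ckNode Cfsg.Agent.Chev.E6.pk (cert.map Prod.fst) tbl i = true := by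
  intro i hi
  have hc : i / 64 < 11 := by omega
  obtain ⟨c, hcd⟩ : ∃ c, c = i / 64 := ⟨_, rfl⟩
  rw [← hcd] at hc
  interval_cases c
  · exact List.all_eq_true.1 ok0 i (List.mem_range'_1.2 (by omega))
  · exact List.all_eq_true.1 ok1 i (List.mem_range'_1.2 (by omega))
  · exact List.all_eq_true.1 ok2 i (List.mem_range'_1.2 (by omega))
  · exact List.all_eq_true.1 ok3 i (List.mem_range'_1.2 (by omega))
  · exact List.all_eq_true.1 ok4 i (List.mem_range'_1.2 (by omega))
  · exact List.all_eq_true.1 ok5 i (List.mem_range'_1.2 (by omega))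
  · exact List.all_eq_true.1 ok6 i (List.mem_range'_1.2 (by omega))
  · exact List.all_eq_true.1 ok7 i (List.mem_range'_1.2 (by omega))
  · exact List.all_eq_true.1 ok8 i (List.mem_range'_1.2 (by omega))
  · exact List.all_eq_true.1 ok9 i (List.mem_range'_1.2 (by omega))
  · exact List.all_eq_true.1 ok10 i (List.mem_range'_1.2 (by omega))

theorem leaves_ok : cert.all (ckLeaf Cfsg.Agent.Chev.E6.pk reps) = true := by decide +kernel

theorem reps_ok : reps.all (ckRep Cfsg.Agent.Chev.E6.pk) = true := by decide +kernel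

theorem root_ok : eqLs (bits Cfsg.Agent.Chev.E6.pk (getN tbl 697).1) (posL Cfsg.Agent.Chev.E6.pk) = true ∧
    Nat.beq (bits Cfsg.Agent.Chev.E6.pk (getN tbl 697).2.1).length 0 = true := by decide +kernel

variable {F : Type*} [Field F] [Fintype F] [CharP F 2]

theorem cover {g : GL chevE6.Idx F} (hg : g ∈ chevE6.group F) (ho : orderOf g = 2) :
    ∃ R ∈ reps, ∃ x ∈ chevE6.group F, x * g * x⁻¹ = prd Cfsg.Agent.Chev.E6.ok (fun _ => 1) R :=
  exists_class Cfsg.Agent.Chev.E6.ok ckComm_E6 (root := 697) (n := 698) (by norm_num) root_ok.1 root_ok.2 ok_all leaves_ok hg ho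

theorem sep : ∀ i j, i < reps.length → j < reps.length → i ≠ j → ∀ x ∈ chevE6.group F,
    x * prd Cfsg.Agent.Chev.E6.ok (fun _ => (1 : F)) (reps.getD i []) * x⁻¹ ≠ prd Cfsg.Agent.Chev.E6.ok (fun _ => 1) (reps.getD j []) := by
  intro i j hi hj hij x hx
  have hl : reps.length = 3 := rfl
  rw [hl] at hi hj
  interval_cases i <;> interval_cases j
  · exact absurd rfl hij
  · exact (ne_of_sep Cfsg.Agent.Chev.E6.ok w0_ok sep0_1 hx).1
  · exact (ne_of_sep Cfsg.Agent.Chev.E6.ok w0_ok sep0_2 hx).1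
  · exact (ne_of_sep Cfsg.Agent.Chev.E6.ok w0_ok sep0_1 hx).2
  · exact absurd rfl hij
  · exact (ne_of_sep Cfsg.Agent.Chev.E6.ok w0_ok sep1_2 hx).1
  · exact (ne_of_sep Cfsg.Agent.Chev.E6.ok w0_ok sep0_2 hx).2
  · exact (ne_of_sep Cfsg.Agent.Chev.E6.ok w0_ok sep1_2 hx).2
  · exact absurd rfl hij

end Cfsg.Agent.Chev.InvolCert.E6
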